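import Groth.Agent.AtlasCohLib.FiniteCoh
import Groth.Agent.AmpleLib.Gen
import Groth.Agent.QCohLib.Push
import Groth.Prelude.Def_CurvBase

/-!
# Zeroth cohomology and global sections over a field
-/

set_option autoImplicit false
universe u

open CategoryTheory CategoryTheory.Limits AlgebraicGeometry TopologicalSpace Opposite

noncomputable section

namespace DegPullLib

variable {X : Scheme.{u}}

/-- Zeroth cohomology is the group of global sections. -/
def e0 (M : X.Modules) : Coh.HH X M 0 ≃+ Γ(M, ⊤) :=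
  (QCohLib.hEquiv ((QCohLib.toAbF X).obj M) 0).trans (QCohLib.h0 (U := (⊤ : Opens X.toTopCat)))

theorem e0_smul (M : X.Modules) (r : Γ(X, ⊤)) (x : Coh.HH X M 0) :
    e0 M (HSMul.hSMul (α := Coh.Γtop X) r x) = r • e0 M x := by
  have h1 := QCohLib.hEquiv_map (Coh.smulAb M r) 0 x
  have h2 := QCohLib.h0_comp (QCohLib.hEquiv ((QCohLib.toAbF X).obj M) 0 x) (Coh.smulAb M r)
  refine ((congrArg (QCohLib.h0 (U := (⊤ : Opens X.toTopCat))) h1).trans h2).trans ?_
  refine congrArg (fun t : Γ(X, ⊤) => t • e0 M x) ?_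
  exact AmpleLib.res_refl (M := Coh.structureModule X) r

variable (k : Type u) [Field k]

/-- Zeroth cohomology is insensitive to pushforward. -/
theorem finrank_H0_push {Y : Scheme.{u}} [X.Over (Spec (CommRingCat.of k))] [Y.Over (Spec (CommRingCat.of k))]
    (f : X ⟶ Y) (hf : f ≫ (Y ↘ (Spec (CommRingCat.of k))) = X ↘ (Spec (CommRingCat.of k))) (G : X.Modules) :
    Module.finrank k (Coh.HH X G 0) = Module.finrank k (Coh.HH Y ((Coh.push f).obj G) 0) := by
  have hc : ∀ r : k, f.app ⊤ (Coh.toGlobal (Y ↘ (Spec (CommRingCat.of k))) r) =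
      Coh.toGlobal (X ↘ (Spec (CommRingCat.of k))) r := by
    intro r
    rw [← hf]
    rfl
  let e := (e0 G).trans ((e0 ((Coh.push f).obj G)).symm : Γ(G, ⊤) ≃+ Coh.HH Y ((Coh.push f).obj G) 0)
  refine LinearEquiv.finrank_eq ({ e with map_smul' := fun r x => (e0 ((Coh.push f).obj G)).injective ?_ } :
    Coh.HH X G 0 ≃ₗ[k] Coh.HH Y ((Coh.push f).obj G) 0)
  show e0 ((Coh.push f).obj G) (e (HSMul.hSMul (α := Coh.Γtop X) (Coh.toGlobal (X ↘ (Spec (CommRingCat.of k))) r) x)) =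
    e0 ((Coh.push f).obj G) (HSMul.hSMul (α := Coh.Γtop Y) (Coh.toGlobal (Y ↘ (Spec (CommRingCat.of k))) r) (e x))
  rw [e0_smul]
  have h1 : ∀ t : Γ(G, ⊤), e0 ((Coh.push f).obj G) ((e0 ((Coh.push f).obj G)).symm t) = t :=
    fun t => AddEquiv.apply_symm_apply (e0 ((Coh.push f).obj G)) t
  refine (h1 _).trans ((e0_smul G _ x).trans ?_)
  refine Eq.trans ?_ (congrArg (fun t : Γ((Coh.push f).obj G, ⊤) => (show Γ(Y, ⊤) from Coh.toGlobal (Y ↘ (Spec (CommRingCat.of k))) r) • t) (h1 _).symm)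
  exact congrArg (fun t : Γ(X, ⊤) => t • e0 G x) (hc r).symm

end DegPullLib

end
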