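import Groth.Agent.AmpleLib.Gen
import Groth.Agent.TwistLib.PullGen
import Groth.Agent.QCohLib.Push
import Groth.Prelude.Def_ResDeg
import Groth.Prelude.Def_Coh
import Mathlib.AlgebraicGeometry.FunctionField

/-!
# Generic rank of the pushforward of an invertible module along a finite dominant map of curves
-/

set_option autoImplicit false
universe u

open CategoryTheory CategoryTheory.Limits AlgebraicGeometry TopologicalSpace Opposite
open AmpleLib (GenAt GenOn)

noncomputable section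

namespace DegPullLib

variable {X Y : Scheme.{u}}

/-- Stalks of a pushforward at a point with one preimage. -/
theorem bijective_stalkPushforward (f : X ⟶ Y) (hf : IsClosedMap f.base) (G : X.Modules) (ξ : X)
    (hfib : ∀ z, f z = f ξ → z = ξ) :
    Function.Bijective (TopCat.Presheaf.stalkPushforward AddCommGrpCat f.base G.presheaf ξ).hom := by
  have hnhd : ∀ O : X.Opens, ξ ∈ O → ∃ V : Y.Opens, f ξ ∈ V ∧ f ⁻¹ᵁ V ≤ O := fun O hO =>
    ⟨⟨(f.base '' (O : Set X)ᶜ)ᶜ, (hf _ O.2.isClosed_compl).isOpen_compl⟩,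
      fun ⟨z, hz, hzy⟩ => hz ((hfib z hzy) ▸ hO), fun z hz => not_not.mp fun h => hz ⟨z, h, rfl⟩⟩
  constructor
  · refine (injective_iff_map_eq_zero _).mpr fun a ha => ?_
    obtain ⟨U, hU, s, rfl⟩ := TopCat.Presheaf.exists_germ_eq (F := (TopCat.Presheaf.pushforward AddCommGrpCat f.base).obj G.presheaf) a
    have h1 : G.presheaf.germ (f ⁻¹ᵁ U) ξ hU s = 0 :=
      (ConcreteCategory.congr_hom (TopCat.Presheaf.stalkPushforward_germ AddCommGrpCat f.base G.presheaf U ξ hU) s).symm.trans ha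
    obtain ⟨W, hW, i₁, i₂, h2⟩ := TopCat.Presheaf.germ_eq G.presheaf ξ (U := f ⁻¹ᵁ U) (V := f ⁻¹ᵁ U) hU hU s 0 (h1.trans (map_zero _).symm)
    obtain ⟨V, hV, hVW⟩ := hnhd W hW
    refine (TopCat.Presheaf.germ_res_apply ((TopCat.Presheaf.pushforward AddCommGrpCat f.base).obj G.presheaf)
      (homOfLE (inf_le_left : U ⊓ V ≤ U)) (f ξ) ⟨hU, hV⟩ s).symm.trans ?_
    have h3 := congrArg (G.presheaf.map (homOfLE (fun z hz => hVW hz.2 : f ⁻¹ᵁ (U ⊓ V) ≤ W)).op) h2
    rw [map_zero, map_zero, ← ConcreteCategory.comp_apply, ← Functor.map_comp] at h3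
    have h4 : ((TopCat.Presheaf.pushforward AddCommGrpCat f.base).obj G.presheaf).map
        (homOfLE (inf_le_left : U ⊓ V ≤ U)).op s = 0 := h3
    rw [h4, map_zero]
  · intro b
    obtain ⟨O, hO, s, rfl⟩ := TopCat.Presheaf.exists_germ_eq (F := G.presheaf) b
    obtain ⟨V, hV, hVO⟩ := hnhd O hO
    refine ⟨((TopCat.Presheaf.pushforward AddCommGrpCat f.base).obj G.presheaf).germ V (f ξ) hV
      (G.presheaf.map (homOfLE hVO).op s), ?_⟩
    exact (ConcreteCategory.congr_hom (TopCat.Presheaf.stalkPushforward_germ AddCommGrpCat f.base G.presheaf V ξ hV) _).trans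
      (TopCat.Presheaf.germ_res_apply G.presheaf (homOfLE hVO) ξ hV s)

theorem stalkPushforward_smul (f : X ⟶ Y) (G : X.Modules) (ξ : X) (c : Y.presheaf.stalk (f ξ))
    (a : ((Coh.push f).obj G).presheaf.stalk (f ξ)) :
    (TopCat.Presheaf.stalkPushforward AddCommGrpCat f.base G.presheaf ξ).hom (c • a) =
      (f.stalkMap ξ c) • (show G.presheaf.stalk ξ from
        (TopCat.Presheaf.stalkPushforward AddCommGrpCat f.base G.presheaf ξ).hom a) := by
  obtain ⟨U₁, h₁, r, rfl⟩ := Y.presheaf.exists_germ_eq (x := f ξ) c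
  obtain ⟨U₂, h₂, s, rfl⟩ := TopCat.Presheaf.exists_germ_eq (F := ((Coh.push f).obj G).presheaf) a
  let W := U₁ ⊓ U₂
  rw [← TopCat.Presheaf.germ_res_apply Y.presheaf (homOfLE (inf_le_left : W ≤ U₁)) (f ξ) ⟨h₁, h₂⟩ r,
    ← TopCat.Presheaf.germ_res_apply ((Coh.push f).obj G).presheaf (homOfLE (inf_le_right : W ≤ U₂)) (f ξ) ⟨h₁, h₂⟩ s]
  generalize Y.presheaf.map (homOfLE (inf_le_left : W ≤ U₁)).op r = r'
  generalize ((Coh.push f).obj G).presheaf.map (homOfLE (inf_le_right : W ≤ U₂)).op s = s'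
  have hW : f ξ ∈ W := ⟨h₁, h₂⟩
  have e := fun t : Γ((Coh.push f).obj G, W) =>
    ConcreteCategory.congr_hom (TopCat.Presheaf.stalkPushforward_germ AddCommGrpCat f.base G.presheaf W ξ hW) t
  refine (congrArg _ (AmpleLib.germ_smul ((Coh.push f).obj G) r' s' hW).symm).trans ((e (r' • s')).trans ?_)
  rw [Scheme.Hom.germ_stalkMap_apply]
  refine (AmpleLib.germ_smul G (f.app W r') (show Γ(G, f ⁻¹ᵁ W) from s') (x := ξ) hW).trans ?_
  exact congrArg _ (e s').symm

/-- The generic rank of the pushforward of an invertible module. -/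
theorem finrank_stalk_push [IsIntegral X] [IsIntegral Y] (f : X ⟶ Y) (hf : IsClosedMap f.base)
    {G : X.Modules} (hG : PicF.IsInvertible G) (hfib : ∀ z, f z = f (genericPoint X) → z = genericPoint X)
    (y : Y) (hy : f (genericPoint X) = y) (hyg : y = genericPoint Y) :
    Module.finrank (Y.presheaf.stalk y) (((Coh.push f).obj G).presheaf.stalk y) =
      f.residueDegree (genericPoint X) := by
  subst hy
  let ξ := genericPoint X
  show Module.finrank (Y.presheaf.stalk (f ξ)) (((Coh.push f).obj G).presheaf.stalk (f ξ)) = f.residueDegree ξ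
  letI alg : Algebra (Y.presheaf.stalk (f ξ)) (X.presheaf.stalk ξ) := (f.stalkMap ξ).hom.toAlgebra
  letI : Module (Y.presheaf.stalk (f ξ)) (G.presheaf.stalk ξ) :=
    Module.compHom _ (f.stalkMap ξ).hom
  haveI : IsScalarTower (Y.presheaf.stalk (f ξ)) (X.presheaf.stalk ξ) (G.presheaf.stalk ξ) :=
    IsScalarTower.of_compHom _ _ _
  let σ := (TopCat.Presheaf.stalkPushforward AddCommGrpCat f.base G.presheaf ξ).hom
  let σ' : ((Coh.push f).obj G).presheaf.stalk (f ξ) →ₗ[Y.presheaf.stalk (f ξ)] G.presheaf.stalk ξ :=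
    { toFun := fun a => σ a
      map_add' := fun a b => map_add σ a b
      map_smul' := fun c a => stalkPushforward_smul f G ξ c a }
  let e : ((Coh.push f).obj G).presheaf.stalk (f ξ) ≃ₗ[Y.presheaf.stalk (f ξ)] G.presheaf.stalk ξ :=
    LinearEquiv.ofBijective σ' (bijective_stalkPushforward f hf G ξ hfib)
  obtain ⟨U, g, hU, hg⟩ := TwistLib.exists_genOn hG ξ
  let e₂ : X.presheaf.stalk ξ ≃ₗ[Y.presheaf.stalk (f ξ)] G.presheaf.stalk ξ :=
    (LinearEquiv.ofBijective (LinearMap.toSpanSingleton (X.presheaf.stalk ξ)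
      (G.presheaf.stalk ξ) (G.presheaf.germ U ξ hU g)) (hg.genAt hU)).restrictScalars _
  rw [e.finrank_eq, ← e₂.finrank_eq]
  letI : Algebra (Y.residueField (f ξ)) (X.residueField ξ) := (f.residueFieldMap ξ).hom.toAlgebra
  have hX : IsField (X.presheaf.stalk ξ) := (inferInstance : Field X.functionField).toIsField
  have hY : IsField (Y.presheaf.stalk (f ξ)) := by
    have : f ξ = genericPoint Y := hyg
    rw [this]
    exact (inferInstance : Field Y.functionField).toIsField
  have hb : ∀ {R : Type u} [CommRing R] [IsLocalRing R], IsField R → Function.Bijective (IsLocalRing.residue R) := by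
    intro R _ _ h
    refine ⟨(RingHom.injective_iff_ker_eq_bot _).mpr ?_, IsLocalRing.residue_surjective⟩
    rw [IsLocalRing.ker_residue]
    exact (IsLocalRing.isField_iff_maximalIdeal_eq).mp h
  exact Algebra.finrank_eq_of_equiv_equiv (RingEquiv.ofBijective _ (hb hY)) (RingEquiv.ofBijective _ (hb hX))
    (RingHom.ext fun c => (IsLocalRing.ResidueField.map_residue (f.stalkMap ξ).hom c))

end DegPullLib

end
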